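import Cfsg.Agent.GeomClasses.Aschbacher.SympType

/-! # Minimal abelian sections when fullness is known only below the section -/

set_option autoImplicit false
set_option maxHeartbeats 400000

namespace Cfsg.Agent.GeomClasses.Asch

open Matrix Cfsg.Geo
open scoped commutatorElement

variable {F : Type*} [Field F] [Fintype F] {n : ℕ}

local notation "Zs" => scalars (Fin n) F

theorem exists_stData_le (hn : 3 ≤ n) {K M : Subgroup (GL (Fin n) F)} (hM : NormalisedBy K M) (hZM : Zs ≤ M)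
    (hMZ : M ≠ Zs) (hmin : ∀ N, NormalisedBy K N → Zs ≤ N → N ≤ M → N = Zs ∨ N = M)
    (hfull : ∀ N, N ≤ M → NormalisedBy K N → ¬ N ≤ Zs → Full N) (hab : ⁅M, M⁆ ≤ Zs) :
    ∃ (r : ℕ) (R : Subgroup (GL (Fin n) F)), STData K r R ∧ R ≤ M := by
  classical
  haveI : Nonempty (Fin n) := ⟨⟨0, by omega⟩⟩
  have hMnZ : ¬ M ≤ Zs := fun h => hMZ (le_antisymm h hZM)
  have hMfull : Full M := hfull M le_rfl hM hMnZ
  have htw : ∀ a ∈ M, ∀ b ∈ M, ⁅a, b⁆ ∈ Zs := fun a ha b hb => hab (Subgroup.commutator_mem_commutator ha hb)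
  have hnc : ∀ N : Subgroup (GL (Fin n) F), Full N → ∃ a ∈ N, ∃ b ∈ N, a * b ≠ b * a := by
    intro N hN
    by_contra h
    push_neg at h
    have hall : ∀ X : Matrix (Fin n) (Fin n) F, ∃ c : F, X = c • 1 := by
      intro X
      refine hN.comm_scalar fun y hy => ?_
      have hX : X ∈ Submodule.span F (matrixSet N) := hN ▸ trivial
      induction hX using Submodule.span_induction with
      | mem a ha => obtain ⟨x, hx, rfl⟩ := ha; rw [← Units.val_mul, ← Units.val_mul, h x hx y hy]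
      | zero => simp
      | add a b _ _ ha hb => rw [mul_add, add_mul, ha, hb]
      | smul c a _ ha => rw [Matrix.mul_smul, Matrix.smul_mul, ha]
    obtain ⟨c, hc⟩ := hall (Matrix.single ⟨0, by omega⟩ ⟨1, by omega⟩ 1)
    have h1 := congrFun (congrFun hc ⟨0, by omega⟩) ⟨1, by omega⟩
    rw [Matrix.single_apply_same, Matrix.smul_apply, Matrix.one_apply_ne (by simp), smul_zero] at h1
    exact one_ne_zero h1
  let f : GL (Fin n) F →* GL (Fin n) F ⧸ Zs := QuotientGroup.mk' _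
  have hf : ∀ {x}, f x = 1 ↔ x ∈ Zs := fun {x} => QuotientGroup.eq_one_iff x
  have hfc : ∀ a ∈ M, ∀ b ∈ M, Commute (f a) (f b) := fun a ha b hb => by
    have := hf.mpr (htw a ha b hb)
    rw [map_commutatorElement, commutatorElement_eq_one_iff_mul_comm] at this
    exact this
  obtain ⟨r, x₀, hr, hx₀M, hx₀Z, hx₀r⟩ : ∃ r x₀, r.Prime ∧ x₀ ∈ M ∧ x₀ ∉ Zs ∧ x₀ ^ r ∈ Zs := by
    obtain ⟨x, hx, hxZ⟩ : ∃ x, x ∈ M ∧ x ∉ Zs := SetLike.not_le_iff_exists.mp hMnZ
    have hfx : f x ≠ 1 := fun h => hxZ (hf.mp h)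
    obtain ⟨r, hr, t, ht⟩ := Nat.exists_prime_and_dvd (mt orderOf_eq_one_iff.mp hfx)
    have h0 : 0 < orderOf (f x) := orderOf_pos _
    have ht0 : 0 < t := Nat.pos_of_mul_pos_left (ht ▸ h0)
    refine ⟨r, x ^ t, hr, pow_mem hx _, fun h => ?_, hf.mp ?_⟩
    · have := orderOf_dvd_of_pow_eq_one (by rw [← map_pow]; exact hf.mpr h : f x ^ t = 1)
      rw [ht] at this
      have := Nat.le_of_dvd ht0 this
      nlinarith [hr.two_le]
    · rw [map_pow, map_pow, ← pow_mul, mul_comm t r, ← ht, pow_orderOf_eq_one]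
  let Mr : Subgroup (GL (Fin n) F) :=
    { carrier := {x | x ∈ M ∧ x ^ r ∈ Zs}
      mul_mem' := fun {a b} ha hb => ⟨mul_mem ha.1 hb.1, hf.mp (by
        rw [map_pow, map_mul, (hfc a ha.1 b hb.1).mul_pow, ← map_pow, ← map_pow, hf.mpr ha.2, hf.mpr hb.2, one_mul])⟩
      one_mem' := ⟨one_mem M, by simp⟩
      inv_mem' := fun {a} ha => ⟨inv_mem ha.1, by rw [inv_pow]; exact inv_mem ha.2⟩ }
  have hMr : ∀ x ∈ M, x ^ r ∈ Zs := by
    have hn1 : NormalisedBy K Mr := fun g hg x hx => ⟨hM g hg x hx.1, by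
      rw [conj_pow]; exact scalars_normal.conj_mem _ hx.2 g⟩
    rcases hmin Mr hn1 (fun x hx => ⟨hZM hx, pow_mem hx r⟩) (fun x hx => hx.1) with h | h
    · exact absurd (h.le (show x₀ ∈ Mr from ⟨hx₀M, hx₀r⟩)) hx₀Z
    · exact fun x hx => (h.ge hx).2
  obtain ⟨x, hx, y, hy, hxy⟩ := hnc M hMfull
  have htr : ∀ a ∈ M, ∀ b ∈ M, ∃ c : Fˣ, c ^ r = 1 ∧ a * b = sc c * (b * a) := by
    intro a ha b hb
    obtain ⟨c, hc⟩ := exists_twist (htw a ha b hb)
    refine ⟨c, sc_injective (n := n) ?_, hc⟩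
    have h1 := pow_twist hc r
    rw [scalars_comm (hMr a ha) b] at h1
    rw [map_one]
    exact right_eq_mul.mp h1
  obtain ⟨c₀, hc₀, hc₀'⟩ := htr x hx y hy
  have hc₀1 : c₀ ≠ 1 := fun h => hxy (by rw [hc₀', h, map_one, one_mul])
  haveI : Fact r.Prime := ⟨hr⟩
  have hord : orderOf c₀ = r := orderOf_eq_prime hc₀ hc₀1
  have hdvd : r ∣ Fintype.card F - 1 := by
    have := orderOf_dvd_natCard c₀
    rwa [hord, Nat.card_eq_fintype_card, Fintype.card_units] at this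
  have hrF : (r : F) ≠ 0 := by
    intro h0
    haveI : CharP F r := (CharP.charP_iff_prime_eq_zero hr).mpr h0
    have hcF : (c₀ : F) ^ r = 1 := by rw [← Units.val_pow_eq_pow_val, hc₀, Units.val_one]
    have : ((c₀ : F) - 1) ^ r = 0 := by rw [sub_pow_char, hcF, one_pow, sub_self]
    exact hc₀1 (Units.ext (sub_eq_zero.mp ((pow_eq_zero_iff hr.ne_zero).mp this)))
  set z := r * Nat.gcd 2 r with hz
  have hrg : r ∣ r.choose 2 * Nat.gcd 2 r := by
    rcases hr.eq_two_or_odd with rfl | ho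
    · decide
    · exact (hr.dvd_choose_self two_ne_zero (by have := hr.two_le; omega)).mul_right _
  have hmulz : ∀ a ∈ M, ∀ b ∈ M, ∃ (u v : Fˣ) (d : Fˣ), sc u = a ^ r ∧ sc v = b ^ r ∧ d ^ Nat.gcd 2 r = 1 ∧
      sc (d * (u * v)) = (a * b) ^ r := by
    intro a ha b hb
    obtain ⟨c, hcr, hc⟩ := htr b hb a ha
    obtain ⟨u, hu⟩ := exists_sc (hMr a ha)
    obtain ⟨v, hv⟩ := exists_sc (hMr b hb)
    obtain ⟨t, ht⟩ := hrg
    refine ⟨u, v, c ^ r.choose 2, hu, hv, by rw [← pow_mul, ht, pow_mul, hcr, one_pow], ?_⟩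
    rw [mul_pow_twist hc r, map_mul, map_mul, hu, hv]
  let R : Subgroup (GL (Fin n) F) :=
    { carrier := {a | a ∈ M ∧ a ^ z = 1}
      mul_mem' := fun {a b} ha hb => ⟨mul_mem ha.1 hb.1, by
        obtain ⟨u, v, d, hu, hv, hd, he⟩ := hmulz a ha.1 b hb.1
        rw [hz, pow_mul, ← he, ← map_pow, mul_pow, mul_pow, hd, one_mul, map_mul, map_pow, map_pow, hu, hv,
          ← pow_mul, ← pow_mul, ← hz, ha.2, hb.2, one_mul]⟩
      one_mem' := ⟨one_mem M, one_pow _⟩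
      inv_mem' := fun {a} ha => ⟨inv_mem ha.1, by rw [inv_pow, ha.2, inv_one]⟩ }
  have hRn : NormalisedBy K R := fun g hg a ha => ⟨hM g hg a ha.1, by rw [conj_pow, ha.2]; group⟩
  have hRZ : ¬ R ≤ Zs := by
    obtain ⟨a, ha⟩ := exists_sc (hMr x hx)
    obtain ⟨b, hb⟩ := exists_sc (hMr y hy)
    suffices ∃ (w : GL (Fin n) F) (s d : Fˣ), w ∈ M ∧ w ∉ Zs ∧ d ^ Nat.gcd 2 r = 1 ∧ sc (d * s ^ r) = w ^ r by
      obtain ⟨w, s, d, hw, hwZ, hd, he⟩ := this
      intro h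
      have hmem : sc s⁻¹ * w ∈ R := ⟨mul_mem (hZM (sc_mem _)) hw, by
        rw [hz, pow_mul, (show Commute (sc s⁻¹) w from sc_comm s⁻¹ w).mul_pow, ← he, ← map_pow, ← map_mul,
          show s⁻¹ ^ r * (d * s ^ r) = d by rw [inv_pow, mul_left_comm, inv_mul_cancel, mul_one], ← map_pow, hd, map_one]⟩
      have := mul_mem (sc_mem (n := n) s) (h hmem)
      rw [← mul_assoc, ← map_mul, mul_inv_cancel, map_one, one_mul] at this
      exact hwZ this
    rcases root_or_pow hr a b with ⟨s, hs⟩ | ⟨j, s, hs⟩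
    · refine ⟨x, s, 1, hx, fun h => hxy (scalars_comm h y), one_pow _, ?_⟩
      rw [one_mul, ← hs, ha]
    · obtain ⟨u, v, d, hu, hv, hd, he⟩ := hmulz (x ^ ((r - 1) * j)) (pow_mem hx _) y hy
      refine ⟨x ^ ((r - 1) * j) * y, a ^ j * s, d, mul_mem (pow_mem hx _) hy, not_scalar_pair hxy _, hd, ?_⟩
      rw [← he]
      have hu' : u = a ^ ((r - 1) * j) := sc_injective (n := n) (by rw [hu, map_pow, ha, ← pow_mul, ← pow_mul, mul_comm])
      have hv' : v = b := sc_injective (n := n) (by rw [hv, hb])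
      congr 2
      rw [hu', hv', hs, ← mul_assoc, ← pow_add, mul_pow, ← pow_mul]
      congr 2
      obtain ⟨k, rfl⟩ : ∃ k, r = k + 1 := ⟨r - 1, by have := hr.two_le; omega⟩
      rw [Nat.add_sub_cancel]; ring
  have hRfull : Full R := hfull R (fun a ha => ha.1) hRn hRZ
  refine ⟨r, R, ⟨hr, hRn, hRfull, fun a ha => ha.2, fun u hu => ⟨hZM (sc_mem u), by rw [← map_pow, hu, map_one]⟩,
    fun a ha b hb => htw a ha.1 b hb.1, hnc R hRfull, hdvd, hrF, fun A hAR hAn hAc => ?_⟩, fun a ha => ha.1⟩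
  by_contra hAZ
  have hsup : A ⊔ Zs = M := (hmin _ hAn.sup_scalars le_sup_right
    (sup_le (hAR.trans fun a ha => ha.1) hZM)).resolve_left fun h => hAZ (le_sup_left.trans h.le)
  refine hxy ?_
  rw [← hsup, ← SetLike.mem_coe, Subgroup.mul_normal] at hx hy
  obtain ⟨a, ha', s, hs, rfl⟩ := hx
  obtain ⟨b, hb', t, ht, rfl⟩ := hy
  have h1 : Commute (a * s) (b * t) :=
    ((show Commute a b from hAc a ha' b hb').mul_right (scalars_comm ht a).symm).mul_left (scalars_comm hs _)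
  exact h1.eq

end Cfsg.Agent.GeomClasses.Asch
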